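import Cfsg.Agent.Lib.Helper90.G2S.O5

/-!
Ladder GP3 (helper93): the prime graph of `G₂(3)` (octonion model).  Definitions only.
-/

set_option autoImplicit false

namespace Cfsg.Agent.Lib.Helper93.GP3

open Cfsg.Lie Matrix Cfsg.Agent.Lib.Helper90.G2S
open scoped MatrixGroups

variable {F : Type*} [Field F]

/-- the trace of a Zorn vector matrix. -/
def tr8 (x : Fin 8 → F) : F := x 0 + x 7

/-- the norm of a Zorn vector matrix. -/
def nm8 (x : Fin 8 → F) : F := x 0 * x 7 - (x 1 * x 4 + x 2 * x 5 + x 3 * x 6)

/-- the fixed space of `g`. -/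
def fixS (g : G2 F) : Submodule F (Fin 8 → F) where
  carrier := {v | act g v = v}
  add_mem' := by
    intro a b ha hb
    show act g (a + b) = a + b
    rw [act_add, ha, hb]
  zero_mem' := O5_zero g
  smul_mem' := by
    intro c a ha
    show act g (c • a) = c • a
    rw [act_smul, ha]

/-- the `-1`-eigenspace of `g`. -/
def negS (g : G2 F) : Submodule F (Fin 8 → F) where
  carrier := {v | act g v = -v}
  add_mem' := by
    intro a b ha hb
    show act g (a + b) = -(a + b)
    rw [act_add, ha, hb, neg_add]
  zero_mem' := by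
    show act g 0 = -0
    rw [O5_zero g, neg_zero]
  smul_mem' := by
    intro c a ha
    show act g (c • a) = -(c • a)
    rw [act_smul, ha, smul_neg]

theorem mem_fixS (g : G2 F) (v : Fin 8 → F) : v ∈ fixS g ↔ act g v = v := Iff.rfl

theorem mem_negS (g : G2 F) (v : Fin 8 → F) : v ∈ negS g ↔ act g v = -v := Iff.rfl

end Cfsg.Agent.Lib.Helper93.GP3
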