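import Cfsg.Agent.Lib.Helper93.GP3.Defs

set_option autoImplicit false

namespace Cfsg.Agent.Lib.Helper93.GP3

open Cfsg.Lie Matrix Cfsg.Agent.Lib.Helper90.G2S
open scoped MatrixGroups

variable {F : Type*} [Field F]

/-- [QE] -/
theorem sq_eq (x : Fin 8 → F) : zornMul x x = tr8 x • x - nm8 x • one8 := by
  ext i
  fin_cases i <;> simp [zornMul, dot3, cross3, tr8, nm8, one8, zA, zB] <;> ring

end Cfsg.Agent.Lib.Helper93.GP3
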