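import Cfsg.Agent.Lib.Helper93.GP3.Defs
import Cfsg.Agent.Lib.Helper93.GP3.QE

set_option autoImplicit false

namespace Cfsg.Agent.Lib.Helper93.GP3

open Cfsg.Lie Matrix Cfsg.Agent.Lib.Helper90.G2S
open scoped MatrixGroups

variable {F : Type*} [Field F]

theorem trn_sub (g : G2 F) (x y : Fin 8 → F) : act g (x - y) = act g x - act g y := by
  have h : x - y = x + (-1 : F) • y := by
    rw [neg_one_smul, sub_eq_add_neg]
  rw [h, act_add, act_smul, neg_one_smul, sub_eq_add_neg]

/-- [TRN] -/
theorem tr_nm_act (g : G2 F) (x : Fin 8 → F) : tr8 (act g x) = tr8 x ∧ nm8 (act g x) = nm8 x := by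
  have h1 := sq_eq (act g x)
  have h2 : zornMul (act g x) (act g x) = tr8 x • act g x - nm8 x • one8 := by
    rw [← act_zornMul, sq_eq x, trn_sub, act_smul, act_smul, act_one8]
  have h3 : (tr8 (act g x) - tr8 x) • act g x = (nm8 (act g x) - nm8 x) • (one8 : Fin 8 → F) := by
    have h4 := h1.symm.trans h2
    rw [sub_smul, sub_smul]
    have h5 : tr8 (act g x) • act g x - tr8 x • act g x -
        (nm8 (act g x) • (one8 : Fin 8 → F) - nm8 x • one8) =
        (tr8 (act g x) • act g x - nm8 (act g x) • one8) - (tr8 x • act g x - nm8 x • one8) := by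
      abel
    rw [← sub_eq_zero, h5, h4, sub_self]
  have htr : tr8 (act g x) = tr8 x := by
    by_contra hne
    have hne' : tr8 (act g x) - tr8 x ≠ 0 := sub_ne_zero.2 hne
    have hy : act g x = ((tr8 (act g x) - tr8 x)⁻¹ * (nm8 (act g x) - nm8 x)) • (one8 : Fin 8 → F) := by
      calc act g x = (tr8 (act g x) - tr8 x)⁻¹ • ((tr8 (act g x) - tr8 x) • act g x) := by
            rw [smul_smul, inv_mul_cancel₀ hne', one_smul]
        _ = _ := by rw [h3, smul_smul]
    have hx : x = act g x := by
      have h6 : x = act g⁻¹ (act g x) := by rw [← act_mul, inv_mul_cancel, act_one]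
      conv_lhs => rw [h6, hy, act_smul, act_one8, ← hy]
    apply hne
    rw [← hx]
  refine ⟨htr, ?_⟩
  rw [htr, sub_self, zero_smul] at h3
  have h7 := congrFun h3 0
  simp [one8] at h7
  exact (sub_eq_zero.1 h7.symm)

end Cfsg.Agent.Lib.Helper93.GP3
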